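import Mathlib

/-! helper7: a point with trivial residue field extension has exactly one point above it in the
base change to the spectrum of a field over the residue field of its image. -/

set_option autoImplicit false
set_option linter.style.haveILetI false
set_option linter.unusedVariables false
set_option linter.unusedSectionVars false
universe u
open CategoryTheory CategoryTheory.Limits AlgebraicGeometry

namespace Groth.Agent.Helper7.UniqPt

open AlgebraicGeometry.Scheme.Pullback

/-- If the residue field map at `T.x` is bijective then `Spec T.tensor` is a single point. -/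
theorem subsingleton_spec_tensor {X Y S : Scheme.{u}} {f : X ⟶ S} {g : Y ⟶ S} (T : Triplet f g)
    (h : Function.Bijective (f.residueFieldMap T.x).hom) :
    Subsingleton ↥(Spec T.tensor) := by
  haveI h1 : IsIso (f.residueFieldMap T.x) := by
    have : IsIso ((forget CommRingCat).map (f.residueFieldMap T.x)) := (isIso_iff_bijective _).mpr h
    exact isIso_of_reflects_iso _ (forget CommRingCat)
  haveI h2 : IsIso ((S.residueFieldCongr T.hx).inv ≫ f.residueFieldMap T.x) := inferInstance
  haveI h3 : IsIso (T.tensorInr) := by
    unfold Triplet.tensorInr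
    exact pushout_inr_iso_of_left_iso _ _
  haveI h4 : IsIso (Spec.map T.tensorInr) := inferInstance
  let e : ↥(Spec T.tensor) ≃ ↥(Spec (Y.residueField T.y)) :=
    (asIso (Spec.map T.tensorInr)).schemeIsoToHomeo.toEquiv
  exact e.subsingleton

theorem main {X Y : Scheme.{u}} (f : X ⟶ Y) (x : ↥X)
    (hx : Function.Bijective (f.residueFieldMap x).hom)
    (ℓ : Type u) [Field ℓ] [Algebra (Y.residueField (f.base x)) ℓ] :
    ∃! z : ↥(pullback f (Spec.map (CommRingCat.ofHom (algebraMap (Y.residueField (f.base x)) ℓ)) ≫
        Y.fromSpecResidueField (f.base x))),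
      (pullback.fst f (Spec.map (CommRingCat.ofHom (algebraMap (Y.residueField (f.base x)) ℓ)) ≫
        Y.fromSpecResidueField (f.base x))).base z = x := by
  have key : ∀ x', x' = x → Function.Bijective (f.residueFieldMap x').hom := by
    rintro _ rfl; exact hx
  generalize hg : Spec.map (CommRingCat.ofHom (algebraMap (Y.residueField (f.base x)) ℓ)) ≫
        Y.fromSpecResidueField (f.base x) = g
  haveI : Unique ↥(Spec (CommRingCat.of ℓ)) :=
    inferInstanceAs (Unique (PrimeSpectrum ℓ))
  have hgy : ∀ y : ↥(Spec (CommRingCat.of ℓ)), g.base y = f.base x := by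
    intro y
    rw [← hg, Scheme.Hom.comp_apply]
    exact Scheme.fromSpecResidueField_apply _ _
  obtain ⟨z, hz1, hz2⟩ := Scheme.Pullback.exists_preimage_pullback (f := f) (g := g) x default
    (hgy default).symm
  refine ⟨z, hz1, ?_⟩
  intro z' hz'
  apply carrierEquiv.injective
  rw [carrierEquiv_eq_iff]
  have hT : (carrierEquiv z').1 = (carrierEquiv z).1 := by
    apply Triplet.ext
    · show (pullback.fst f g) z' = (pullback.fst f g) z
      rw [hz1]; exact hz'
    · exact Subsingleton.elim _ _
  refine ⟨hT, ?_⟩
  haveI := subsingleton_spec_tensor (carrierEquiv z).1 (key _ hz1)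
  exact Subsingleton.elim _ _

end Groth.Agent.Helper7.UniqPt
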